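import Mathlib.RingTheory.MvPowerSeries.Derivative
import Mathlib.RingTheory.MvPowerSeries.Inverse
import Mathlib.RingTheory.Nakayama
import Groth.Agent.Lib.RegLoc.PowerSeries

/-!
# Low order terms of multivariate power series over a field
-/

set_option autoImplicit false

universe u

open IsLocalRing MvPowerSeries

namespace GrothLib.QuadSeries

variable {k : Type u} [Field k] {σ : Type*} [Finite σ]

theorem mem_span_X_pow {n : ℕ} {g : MvPowerSeries σ k} (hg : ∀ d : σ →₀ ℕ, d.degree < n → coeff d g = 0) :
    g ∈ (Ideal.span (Set.range (X : σ → MvPowerSeries σ k))) ^ n := by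
  let I := MvPolynomial.idealOfVars σ k
  let e := MvPowerSeries.toAdicCompletionAlgEquiv σ k
  have h0 : truncTotal n g = 0 := by
    ext m
    rw [MvPolynomial.coeff_zero]
    rcases lt_or_ge m.degree n with h | h
    · rw [coeff_truncTotal _ h]; exact hg m h
    · exact coeff_truncTotal_eq_zero _ h
  have h1 : e g ∈ LinearMap.ker (AdicCompletion.eval I (MvPolynomial σ k) n) := by
    rw [LinearMap.mem_ker]
    change ((MvPowerSeries.toAdicCompletion σ k g).val n) = 0
    rw [MvPowerSeries.toAdicCompletion_apply_eq_mk_truncTotal, h0]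
    rfl
  rw [← AdicCompletion.pow_smul_top_eq_ker_eval (MvPolynomial.idealOfVars_fg _ _)] at h1
  have h2 : g ∈ I ^ n • (⊤ : Submodule (MvPolynomial σ k) (MvPowerSeries σ k)) := by
    have h := Submodule.mem_map_of_mem (f := e.symm.toLinearMap) h1
    rw [Submodule.map_smul'', Submodule.map_top, LinearMap.range_eq_top.2 e.symm.surjective] at h
    rwa [show e.symm.toLinearMap (e g) = g from e.symm_apply_apply g] at h
  rw [Ideal.smul_top_eq_map, Submodule.restrictScalars_mem, Ideal.map_pow] at h2
  refine Ideal.pow_right_mono ?_ n h2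
  rw [Ideal.map_span, Ideal.span_le]
  rintro _ ⟨_, ⟨i, rfl⟩, rfl⟩
  refine Ideal.subset_span ⟨i, ?_⟩
  rw [MvPowerSeries.algebraMap_apply']
  simp

omit [Finite σ] in
theorem mem_max {f : MvPowerSeries σ k} : f ∈ maximalIdeal (MvPowerSeries σ k) ↔ constantCoeff f = 0 := by
  rw [IsLocalRing.mem_maximalIdeal, mem_nonunits_iff, MvPowerSeries.isUnit_iff_constantCoeff,
    isUnit_iff_ne_zero, not_not]

theorem maximalIdeal_eq : maximalIdeal (MvPowerSeries σ k) = Ideal.span (Set.range (X : σ → MvPowerSeries σ k)) := by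
  refine le_antisymm (fun f hf => ?_) (Ideal.span_le.2 ?_)
  · rw [← pow_one (Ideal.span _)]
    refine mem_span_X_pow fun d hd => ?_
    obtain rfl : d = 0 := (Finsupp.degree_eq_zero_iff d).1 (by omega)
    rw [coeff_zero_eq_constantCoeff]
    exact mem_max.1 hf
  · rintro _ ⟨i, rfl⟩
    exact mem_max.2 (constantCoeff_X i)

theorem mem_max_pow {n : ℕ} {g : MvPowerSeries σ k} (hg : ∀ d : σ →₀ ℕ, d.degree < n → coeff d g = 0) :
    g ∈ maximalIdeal (MvPowerSeries σ k) ^ n := by
  rw [maximalIdeal_eq]; exact mem_span_X_pow hg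

/-- A series without constant term is its linear part modulo the square of the maximal ideal. -/
theorem sub_linear_mem_sq [Fintype σ] {g : MvPowerSeries σ k} (h0 : constantCoeff g = 0) :
    g - ∑ j, C (coeff (Finsupp.single j 1) g) * X j ∈ maximalIdeal (MvPowerSeries σ k) ^ 2 := by
  classical
  refine mem_max_pow fun d hd => ?_
  rw [map_sub, map_sum, sub_eq_zero]
  simp only [coeff_C_mul, coeff_X, mul_ite, mul_one, mul_zero]
  rcases Nat.lt_or_ge d.degree 1 with h | h
  · obtain rfl : d = 0 := (Finsupp.degree_eq_zero_iff d).1 (by omega)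
    rw [coeff_zero_eq_constantCoeff]
    refine h0.trans (Finset.sum_eq_zero fun j _ => if_neg fun e => ?_).symm
    simpa using congrArg Finsupp.degree e
  · obtain ⟨i, rfl⟩ := (Finsupp.sum_eq_one_iff d).1 (show d.degree = 1 by omega)
    simp [Finsupp.single_left_inj]

omit [Finite σ] in
theorem coeff_single_pderiv [DecidableEq σ] (f : MvPowerSeries σ k) (i j : σ) :
    coeff (Finsupp.single j 1) (pderiv k i f) =
      coeff (Finsupp.single j 1 + Finsupp.single i 1) f * (if j = i then 2 else 1) := by
  rw [coeff_pderiv, Finsupp.single_apply]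
  split_ifs <;> simp <;> norm_num

omit [Finite σ] in
theorem constantCoeff_pderiv (f : MvPowerSeries σ k) (i : σ) :
    constantCoeff (pderiv k i f) = coeff (Finsupp.single i 1) f := by
  rw [← coeff_zero_eq_constantCoeff, coeff_pderiv, zero_add]
  simp

end GrothLib.QuadSeries
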